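import Cfsg.Agent.Lib.TILinear.Semiregular
import Cfsg.Agent.Lib.Char.Orth
import Cfsg.Agent.Lib.Char.Clifford
import Cfsg.Agent.Lib.FrobeniusBound.Blichfeldt

/-!
Semiregular coprime action on a nilpotent subgroup bounds the degree of a faithful character.
-/

set_option autoImplicit false

open scoped commutatorElement

namespace CfsgLib.TILinear

universe u

variable {G : Type u} [Group G] [Finite G] {P : Subgroup G} {χ : G → ℂ} {d : ℕ}

omit [Finite G] in
theorem conj_mem {K : Subgroup G} (hnorm : P ≤ Subgroup.normalizer (K : Set G)) {z k : G}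
    (hz : z ∈ P) (hk : k ∈ K) : z * k * z⁻¹ ∈ K :=
  (Subgroup.mem_normalizer_iff.mp (hnorm hz) k).mp hk

/-- Conjugation by elements of `P`, as automorphisms of an invariant subgroup. -/
def conjAct {K : Subgroup G} (hnorm : P ≤ Subgroup.normalizer (K : Set G)) : P →* MulAut K where
  toFun z :=
    { toFun := fun k => ⟨(z : G) * k * (z : G)⁻¹, conj_mem hnorm z.2 k.2⟩
      invFun := fun k => ⟨(z : G)⁻¹ * k * z, by
        have := conj_mem hnorm (P.inv_mem z.2) k.2
        rwa [inv_inv] at this⟩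
      left_inv := fun k => Subtype.ext (by simp [mul_assoc])
      right_inv := fun k => Subtype.ext (by simp [mul_assoc])
      map_mul' := fun a b => Subtype.ext (by simp [mul_assoc]) }
  map_one' := by
    ext k
    simp
  map_mul' a b := by
    ext k
    simp [mul_assoc]

omit [Finite G] in
theorem conjAct_coe {K : Subgroup G} (hnorm : P ≤ Subgroup.normalizer (K : Set G)) (z : P) (k : K) :
    ((conjAct hnorm z k : K) : G) = (z : G) * k * (z : G)⁻¹ := rfl

/-- If the twist of `k` by `y` is fixed by `y`, then so is `k`. -/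
theorem fixed_of_twist {y k : G} (hcop : (orderOf (k⁻¹ * (y * k * y⁻¹))).Coprime (orderOf y))
    (hy : y * (k⁻¹ * (y * k * y⁻¹)) = (k⁻¹ * (y * k * y⁻¹)) * y) : y * k = k * y := by
  set c := k⁻¹ * (y * k * y⁻¹) with hc
  have hpow : ∀ i : ℕ, y ^ i * k * (y ^ i)⁻¹ = k * c ^ i := by
    intro i
    induction i with
    | zero => simp
    | succ i ih =>
      have h1 : y * c ^ i * y⁻¹ = c ^ i := by
        rw [((show Commute y c from hy).pow_right i).eq, mul_inv_cancel_right]
      calc y ^ (i + 1) * k * (y ^ (i + 1))⁻¹ = y * (y ^ i * k * (y ^ i)⁻¹) * y⁻¹ := by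
            rw [pow_succ']; simp [mul_assoc]
        _ = (y * k * y⁻¹) * (y * c ^ i * y⁻¹) := by rw [ih]; simp [mul_assoc]
        _ = k * c ^ (i + 1) := by rw [h1, pow_succ', hc]; simp [mul_assoc]
  have h2 := hpow (orderOf y)
  rw [pow_orderOf_eq_one, one_mul, inv_one, mul_one] at h2
  have h3 : c ^ orderOf y = 1 := mul_left_cancel (h2.symm.trans (mul_one k).symm)
  have h4 : c = 1 := orderOf_eq_one_iff.mp
    (Nat.eq_one_of_dvd_coprimes hcop dvd_rfl (orderOf_dvd_of_pow_eq_one h3))
  rw [hc, inv_mul_eq_one] at h4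
  conv_rhs => rw [h4]
  simp [mul_assoc]

/-- An invariant nilpotent subgroup on which `P` acts semiregularly and nontrivially forces a
faithful character to have degree `d` with `|P| < d ^ 2`. -/
theorem card_lt_sq (hχ : Cfsg.IsCharacter G χ) (hf : ∀ g : G, χ g = χ 1 → g = 1) (hd : χ 1 = d)
    (K : Subgroup G) (hnorm : P ≤ Subgroup.normalizer (K : Set G))
    (hcop : (Nat.card P).Coprime (Nat.card K))
    (hsemi : ∀ y ∈ P, y ≠ 1 → ∀ k ∈ K, y * k = k * y → ∀ z ∈ P, z * k = k * z)
    (hnil : Group.IsNilpotent K) (hnc : ¬ K ≤ Subgroup.centralizer (P : Set G)) :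
    Nat.card P < d ^ 2 := by
  classical
  induction hN : Nat.card K using Nat.strong_induction_on generalizing K with
  | _ N ih =>
  cases nonempty_fintype G
  haveI := hnil
  -- proper invariant subgroups are centralized
  by_cases hmin : ∃ L : Subgroup G, L < K ∧ P ≤ Subgroup.normalizer (L : Set G) ∧
      ¬ L ≤ Subgroup.centralizer (P : Set G)
  · obtain ⟨L, hLK, hLn, hLc⟩ := hmin
    refine ih (Nat.card L) ?_ L hLn (hcop.coprime_dvd_right (Subgroup.card_dvd_of_le hLK.le))
      (fun y hy hy1 k hk => hsemi y hy hy1 k (hLK.le hk)) ?_ hLc rfl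
    · rw [← hN]
      exact Set.Finite.card_lt_card (Set.toFinite _) (SetLike.coe_ssubset_coe.mpr hLK)
    · exact Group.nilpotent_of_mulEquiv (Subgroup.subgroupOfEquivOfLe hLK.le)
  push Not at hmin
  have hfixall : ∀ y ∈ P, y ≠ 1 → ∀ k ∈ K, k⁻¹ * (y * k * y⁻¹) ∈ Subgroup.centralizer (P : Set G) →
      k ∈ Subgroup.centralizer (P : Set G) := by
    intro y hy hy1 k hk hc
    refine Subgroup.mem_centralizer_iff.mpr (hsemi y hy hy1 k hk
      (fixed_of_twist ?_ (Subgroup.mem_centralizer_iff.mp hc y hy)))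
    refine (hcop.symm.coprime_dvd_left ?_).coprime_dvd_right (P.orderOf_dvd_natCard hy)
    exact K.orderOf_dvd_natCard (K.mul_mem (K.inv_mem hk) (conj_mem hnorm hy hk))
  obtain ⟨k₀, hk₀K, hk₀⟩ := SetLike.not_le_iff_exists.mp hnc
  obtain ⟨y₀, hy₀, hy₀1⟩ : ∃ y ∈ P, y ≠ 1 := by
    by_contra h
    push Not at h
    exact hk₀ (Subgroup.mem_centralizer_iff.mpr fun z hz => by
      rw [h z hz, one_mul, mul_one])
  -- the commutator subgroup is centralized
  set D : Subgroup G := ⁅K, K⁆ with hD
  have hDK : D ≤ K := (Subgroup.commutator_le_self K)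
  have hDn : P ≤ Subgroup.normalizer (D : Set G) := by
    intro z hz
    have hzK : K.map (MulAut.conj z).toMonoidHom = K := by
      refine Subgroup.eq_of_le_of_card_ge ?_
        (Subgroup.card_map_of_injective (MulAut.conj z).injective).ge
      rintro _ ⟨k, hk, rfl⟩
      exact conj_mem hnorm hz hk
    have hzD : D.map (MulAut.conj z).toMonoidHom = D := by
      rw [hD, Subgroup.map_commutator, hzK]
    rw [Subgroup.mem_normalizer_iff]
    intro h
    constructor
    · intro hh
      rw [← hzD]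
      exact ⟨h, hh, rfl⟩
    · intro hh
      rw [← hzD] at hh
      obtain ⟨w, hw, he⟩ := hh
      exact (MulAut.conj z).injective he ▸ hw
  have hDlt : D < K := by
    refine lt_of_le_of_ne hDK fun h => ?_
    have h1 : (commutator K).map K.subtype = (⊤ : Subgroup K).map K.subtype := by
      rw [Subgroup.map_subtype_commutator, ← MonoidHom.range_eq_map, Subgroup.range_subtype]
      exact h
    have hK1 : Nontrivial K := by
      rw [← not_subsingleton_iff_nontrivial]
      intro hs
      refine hk₀ ?_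
      rw [show k₀ = 1 from congrArg Subtype.val (Subsingleton.elim (⟨k₀, hk₀K⟩ : K) 1)]
      exact one_mem _
    exact (Group.IsSolvable.commutator_lt_top_of_nontrivial K).ne
      (Subgroup.map_injective K.subtype_injective h1)
  have hDc : D ≤ Subgroup.centralizer (P : Set G) := hmin D hDlt hDn
  -- hence central
  have hDcentral : ∀ k ∈ K, ∀ t ∈ D, t * k = k * t := by
    set M : Subgroup G := K ⊓ Subgroup.centralizer (D : Set G) with hM
    have htw : ∀ k ∈ K, k⁻¹ * (y₀ * k * y₀⁻¹) ∈ M := by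
      intro k hk
      refine ⟨K.mul_mem (K.inv_mem hk) (conj_mem hnorm hy₀ hk), Subgroup.mem_centralizer_iff.mpr ?_⟩
      intro t ht
      have hty : Commute y₀ t := Subgroup.mem_centralizer_iff.mp (hDc ht) y₀ hy₀
      have he : ⁅t, k⁆ ∈ D := Subgroup.commutator_mem_commutator (hDK ht) hk
      have hey : Commute y₀ ⁅t, k⁆ := Subgroup.mem_centralizer_iff.mp (hDc he) y₀ hy₀
      have hconj : ⁅t, y₀ * k * y₀⁻¹⁆ = ⁅t, k⁆ := by
        have h1 : ⁅y₀ * t * y₀⁻¹, y₀ * k * y₀⁻¹⁆ = y₀ * ⁅t, k⁆ * y₀⁻¹ := by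
          simp [commutatorElement_def, mul_assoc]
        rwa [hty.eq, mul_inv_cancel_right, hey.eq, mul_inv_cancel_right] at h1
      have h2 : t * (y₀ * k * y₀⁻¹) * t⁻¹ = ⁅t, k⁆ * (y₀ * k * y₀⁻¹) := by
        rw [← hconj]; simp [commutatorElement_def, mul_assoc]
      have h3 : t * (k⁻¹ * (y₀ * k * y₀⁻¹)) * t⁻¹ = k⁻¹ * (y₀ * k * y₀⁻¹) := by
        rw [show t * (k⁻¹ * (y₀ * k * y₀⁻¹)) * t⁻¹ =
          (t * k * t⁻¹)⁻¹ * (t * (y₀ * k * y₀⁻¹) * t⁻¹) by simp [mul_assoc], h2]
        simp [commutatorElement_def, mul_assoc]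
      calc t * (k⁻¹ * (y₀ * k * y₀⁻¹)) = t * (k⁻¹ * (y₀ * k * y₀⁻¹)) * t⁻¹ * t := by simp [mul_assoc]
        _ = k⁻¹ * (y₀ * k * y₀⁻¹) * t := by rw [h3]
    have hMK : M = K := by
      by_contra hne
      have hMc : M ≤ Subgroup.centralizer (P : Set G) := by
        refine hmin M (lt_of_le_of_ne inf_le_left hne) ?_
        intro z hz
        rw [Subgroup.mem_normalizer_iff]
        have key : ∀ w ∈ P, ∀ h ∈ M, w * h * w⁻¹ ∈ M := by
          intro w hw h hh
          refine ⟨conj_mem hnorm hw hh.1, Subgroup.mem_centralizer_iff.mpr fun t ht => ?_⟩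
          have htw : Commute w t := Subgroup.mem_centralizer_iff.mp (hDc ht) w hw
          have hth : Commute t h := Subgroup.mem_centralizer_iff.mp hh.2 t ht
          exact ((htw.symm.mul_right hth).mul_right htw.symm.inv_right).eq
        intro h
        refine ⟨key z hz h, fun hh => ?_⟩
        have := key z⁻¹ (P.inv_mem hz) _ hh
        simpa [mul_assoc] using this
      exact hk₀ (hfixall y₀ hy₀ hy₀1 k₀ hk₀K (hMc (htw k₀ hk₀K)))
    intro k hk t ht
    rw [← hMK] at hk
    exact Subgroup.mem_centralizer_iff.mp hk.2 t ht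
  have hcl : ∀ a b c : K, ⁅a, b⁆ * c = c * ⁅a, b⁆ := fun a b c =>
    Subtype.ext (hDcentral c c.2 _ (Subgroup.commutator_mem_commutator a.2 b.2))
  -- decompose the restriction
  let χK : K → ℂ := fun x => χ x
  have hχK : Cfsg.IsCharacter K χK := Char.IsCharacter.restrict hχ K
  choose m hm using fun φ : Cfsg.IrrCharacter K => Char.IsCharacter.exists_nat_classInner hχK φ.2
  choose deg hdegpos hdeg using fun φ : Cfsg.IrrCharacter K => Char.IsIrrCharacter.exists_degree φ.2
  have hexp : χK = ∑ φ : Cfsg.IrrCharacter K, (m φ : ℂ) • (φ : K → ℂ) := by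
    conv_lhs => rw [Char.IsCharacter.eq_sum_classInner hχK]
    simp only [hm]
  set S := Finset.univ.filter fun φ : Cfsg.IrrCharacter K => m φ ≠ 0 with hS
  have hsum : ∑ φ ∈ S, deg φ ≤ d := by
    have h2 : (d : ℂ) = ((∑ φ, m φ * deg φ : ℕ) : ℂ) := by
      rw [← hd]
      show χK 1 = _
      rw [hexp]
      simp [hdeg]
    rw [Nat.cast_inj] at h2
    refine le_trans ?_ h2.ge
    refine le_trans (Finset.sum_le_sum fun φ hφ => ?_)
      (Finset.sum_le_univ_sum_of_nonneg fun φ => Nat.zero_le _)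
    exact Nat.le_mul_of_pos_left _ (Nat.pos_of_ne_zero (Finset.mem_filter.mp hφ).2)
  have hfaithK : ∀ g : K, (∀ φ ∈ S, (φ : K → ℂ) g = (φ : K → ℂ) 1) → g = 1 := by
    intro g hg
    refine Subtype.ext (hf _ ?_)
    show χK g = χK 1
    rw [hexp]
    simp only [Finset.sum_apply, Pi.smul_apply]
    refine Finset.sum_congr rfl fun φ _ => ?_
    by_cases h0 : m φ = 0
    · simp [h0]
    · rw [hg φ (Finset.mem_filter.mpr ⟨Finset.mem_univ _, h0⟩)]
  by_cases hab : ∀ a b : K, a * b = b * a
  swap
  · -- a nonabelian minimal group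
    push Not at hab
    obtain ⟨a, b, hab⟩ := hab
    obtain ⟨φ, hφS, hφ⟩ : ∃ φ ∈ S, (φ : K → ℂ) ⁅a, b⁆ ≠ (φ : K → ℂ) 1 := by
      by_contra h
      push Not at h
      exact hab (commutatorElement_eq_one_iff_mul_comm.mp (hfaithK _ h))
    obtain ⟨e, ρ, hρ, hρφ⟩ := φ.2
    obtain ⟨M, hMmem, hMidx⟩ := exists_center_index ρ hρ hcl
    have hdege : deg φ = e := by
      have h1 := hdeg φ
      rw [← hρφ, Representation.char_one, Module.finrank_fin_fun] at h1
      exact_mod_cast h1.symm
    have hconj : ∀ (z : P) (k : K), k ∈ M → conjAct hnorm z k ∈ M := by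
      intro z k hk
      rw [hMmem] at hk ⊢
      intro g
      obtain ⟨g', rfl⟩ := (conjAct hnorm z).surjective g
      have h1 : ⁅conjAct hnorm z k, conjAct hnorm z g'⁆ = ⁅k, g'⁆ := by
        rw [← map_commutatorElement]
        refine Subtype.ext ?_
        rw [conjAct_coe]
        have hc : (⁅k, g'⁆ : K).1 ∈ D := Subgroup.commutator_mem_commutator k.2 g'.2
        rw [Subgroup.mem_centralizer_iff.mp (hDc hc) z z.2, mul_inv_cancel_right]
      rw [h1]
      exact hk g'
    have hMc : M.map K.subtype ≤ Subgroup.centralizer (P : Set G) := by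
      refine hmin _ (lt_of_le_of_ne (Subgroup.map_subtype_le M) ?_) ?_
      · intro h
        have hMt : M = ⊤ := Subgroup.map_injective K.subtype_injective (by
          rw [h, ← MonoidHom.range_eq_map, Subgroup.range_subtype])
        have h1 := (hMmem a).mp (hMt ▸ Subgroup.mem_top a) b
        apply hφ
        rw [← hρφ]
        show ρ.character ⁅a, b⁆ = ρ.character 1
        simp only [Representation.character, h1, map_one]
      · intro z hz
        rw [Subgroup.mem_normalizer_iff]
        intro h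
        constructor
        · rintro ⟨w, hw, rfl⟩
          exact ⟨_, hconj ⟨z, hz⟩ w hw, rfl⟩
        · rintro ⟨w, hw, he⟩
          refine ⟨_, hconj ⟨z, hz⟩⁻¹ w hw, ?_⟩
          show ((⟨z, hz⟩⁻¹ : P) : G) * w.1 * ((⟨z, hz⟩⁻¹ : P) : G)⁻¹ = h
          have he' : w.1 = z * h * z⁻¹ := he
          simp [he', mul_assoc]
    let F : Option P → K ⧸ M := fun o =>
      o.elim ((1 : K) : K ⧸ M) fun z => ((conjAct hnorm z ⟨k₀, hk₀K⟩ : K) : K ⧸ M)
    have hF : Function.Injective F := by
      have key : ∀ z : P, ((conjAct hnorm z ⟨k₀, hk₀K⟩ : K) : K ⧸ M) ≠ ((1 : K) : K ⧸ M) := by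
        intro z h
        rw [QuotientGroup.eq, mul_one, inv_mem_iff] at h
        have h2 := hconj z⁻¹ _ h
        rw [← MulAut.mul_apply, ← map_mul, inv_mul_cancel, map_one, MulAut.one_apply] at h2
        exact hk₀ (hMc ⟨_, h2, rfl⟩)
      rintro (_ | z) (_ | w) h
      · rfl
      · exact absurd h.symm (key w)
      · exact absurd h (key z)
      · refine congrArg some ?_
        by_contra hne
        have h1 : (conjAct hnorm z ⟨k₀, hk₀K⟩)⁻¹ * conjAct hnorm w ⟨k₀, hk₀K⟩ ∈ M :=
          QuotientGroup.eq.mp h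
        have h2 := hconj z⁻¹ _ h1
        rw [map_mul, map_inv (conjAct hnorm z⁻¹), ← MulAut.mul_apply, ← MulAut.mul_apply,
          ← map_mul, ← map_mul, inv_mul_cancel, map_one, MulAut.one_apply] at h2
        have hy1 : (z⁻¹ * w : P) ≠ 1 := fun h => hne (inv_mul_eq_one.mp h)
        refine hk₀ (hfixall ((z⁻¹ * w : P) : G) (z⁻¹ * w).2 (fun h => hy1 (Subtype.ext h)) k₀ hk₀K ?_)
        exact hMc ⟨_, h2, rfl⟩
    have hcard := Nat.card_le_card_of_injective F hF
    rw [Finite.card_option, ← Subgroup.index_eq_card, hMidx] at hcard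
    have hle : e ≤ d := hdege ▸ le_trans (Finset.single_le_sum (fun _ _ => Nat.zero_le _) hφS) hsum
    have := Nat.pow_le_pow_left hle 2
    omega
  · -- an abelian minimal group
    letI : CommGroup K := { (inferInstance : Group K) with mul_comm := hab }
    have hlin : ∀ φ : Cfsg.IrrCharacter K, ∃ f : K →* ℂˣ, ∀ k, (φ : K → ℂ) k = f k := by
      intro φ
      obtain ⟨e, ρ, hρ, hρφ⟩ := φ.2
      obtain ⟨M, hMmem, hMidx⟩ := exists_center_index ρ hρ hcl
      have hMt : M = ⊤ := eq_top_iff.mpr fun k _ => (hMmem k).mpr fun g => by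
        rw [commutatorElement_eq_one_iff_mul_comm.mpr (hab k g), map_one]
      rw [hMt, Subgroup.index_top] at hMidx
      have he : e = 1 := (Nat.pow_eq_one.mp hMidx.symm).resolve_right two_ne_zero
      exact Char.IsCharacter.exists_linear (Char.IsIrrCharacter.isCharacter φ.2)
        (by rw [← hρφ, Representation.char_one, Module.finrank_fin_fun, he, Nat.cast_one])
    choose f hlam using hlin
    obtain ⟨φ, hφS, z₁, k₁, hmove⟩ : ∃ φ ∈ S, ∃ (z : P) (k : K),
        f φ (conjAct hnorm z k) ≠ f φ k := by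
      by_contra h
      push Not at h
      refine hk₀ (Subgroup.mem_centralizer_iff.mpr fun z hz => ?_)
      have h1 : (⟨k₀, hk₀K⟩ : K)⁻¹ * conjAct hnorm ⟨z, hz⟩ ⟨k₀, hk₀K⟩ = 1 := hfaithK _ fun φ hφ => by
        rw [hlam, hlam, map_mul, map_inv, h φ hφ, inv_mul_cancel, map_one]
      rw [inv_mul_eq_one] at h1
      have h2 : k₀ = z * k₀ * z⁻¹ := congrArg Subtype.val h1
      conv_rhs => rw [h2]
      simp [mul_assoc]
    let orb : P → Cfsg.IrrCharacter K := fun z =>
      ⟨fun k => ((f φ).comp (conjAct hnorm z).toMonoidHom k : ℂ), Char.isIrrCharacter_linear _⟩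
    have horbS : ∀ z : P, orb z ∈ S := by
      intro z
      refine Finset.mem_filter.mpr ⟨Finset.mem_univ _, fun h0 => (Finset.mem_filter.mp hφS).2 ?_⟩
      have h1 : Cfsg.classInner χK (orb z : K → ℂ) = Cfsg.classInner χK (φ : K → ℂ) := by
        simp only [Cfsg.classInner]
        congr 1
        refine Fintype.sum_equiv (conjAct hnorm z).toEquiv _ _ fun k => ?_
        have hcl' : χ ((z : G) * k * (z : G)⁻¹) = χ (k : G) :=
          Char.IsCharacter.isClassFunction hχ _ _
        show χ (k : G) * _ = χ ((z : G) * k * (z : G)⁻¹) * _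
        rw [hcl']
        exact congrArg (fun c : ℂ => χ (k : G) * (starRingEnd ℂ) c) (hlam φ (conjAct hnorm z k)).symm
      rw [hm, hm] at h1
      exact_mod_cast (h1.symm.trans (show (m (orb z) : ℂ) = ((0 : ℕ) : ℂ) by rw [h0]))
    have horb : Function.Injective orb := by
      intro z w h
      by_contra hne
      have h1 : ∀ k, f φ (conjAct hnorm z k) = f φ (conjAct hnorm w k) := fun k =>
        Units.ext (congrFun (congrArg Subtype.val h) k)
      have hsemi' : ∀ y : P, y ≠ 1 → ∀ a : K, conjAct hnorm y a = a →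
          ∀ z : P, conjAct hnorm z a = a := by
        intro y hy a ha z
        have h2 : (y : G) * a * (y : G)⁻¹ = a := congrArg Subtype.val ha
        refine Subtype.ext ?_
        rw [conjAct_coe, hsemi y y.2 (fun h => hy (Subtype.ext h)) a a.2
          (by conv_rhs => rw [← h2]; simp [mul_assoc]) z z.2, mul_inv_cancel_right]
      refine hmove (linear_invariant (conjAct hnorm) hcop hsemi' (f φ) (y := z * w⁻¹)
        (fun h => hne (mul_inv_eq_one.mp h)) (fun a => ?_) z₁ k₁)
      rw [map_mul, MulAut.mul_apply, h1, ← MulAut.mul_apply, ← map_mul, mul_inv_cancel, map_one,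
        MulAut.one_apply]
    have hcard : Nat.card P ≤ d := by
      calc Nat.card P ≤ S.card := by
            rw [← Nat.card_eq_finsetCard]
            exact Nat.card_le_card_of_injective (fun z => (⟨orb z, horbS z⟩ : S))
              fun z w h => horb (congrArg Subtype.val h)
        _ ≤ ∑ ψ ∈ S, deg ψ := by
            rw [Finset.card_eq_sum_ones]
            exact Finset.sum_le_sum fun ψ _ => hdegpos ψ
        _ ≤ d := hsum
    have hone : 1 < Nat.card P := Finite.one_lt_card_iff_nontrivial.mpr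
      (nontrivial_of_ne (⟨y₀, hy₀⟩ : P) 1 fun h => hy₀1 (congrArg Subtype.val h))
    calc Nat.card P ≤ d := hcard
      _ < d ^ 2 := by nlinarith

end CfsgLib.TILinear
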