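import Cfsg.Agent.Lib.Char.Complete
import Cfsg.Agent.Lib.Char.Linear
import Cfsg.Agent.Lib.Char.Integral
import Cfsg.Agent.Lib.Char.Kernel
import Cfsg.Agent.Lib.CharTools.Basic
import Mathlib.GroupTheory.Nilpotent

/-!
A nilpotent group acted on semiregularly (off the common fixed points) by a coprime group `P`:
a faithful character of the semidirect product has degree `d` with `|P| < d²`.
-/

set_option autoImplicit false

open scoped commutatorElement

namespace CfsgLib.TILinear

universe u v

/-- A linear character fixed by one semiregular element is fixed by the whole group. -/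
theorem linear_invariant {A : Type u} [CommGroup A] [Finite A] {P : Type v} [Group P] [Finite P]
    (act : P →* MulAut A) (hcop : (Nat.card P).Coprime (Nat.card A))
    (hsemi : ∀ y : P, y ≠ 1 → ∀ a : A, act y a = a → ∀ z : P, act z a = a)
    (f : A →* ℂˣ) {y : P} (hy : y ≠ 1) (hf : ∀ a, f (act y a) = f a) (z : P) (a : A) :
    f (act z a) = f a := by
  classical
  cases nonempty_fintype P
  set Q := Subgroup.zpowers y with hQ
  let NQ : A → A := fun a => ∏ q : Q, act (q : P) a
  let NP : A → A := fun a => ∏ p : P, act p a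
  have hfQ : ∀ q : Q, ∀ b, f (act (q : P) b) = f b := by
    rintro ⟨q, hq⟩ b
    obtain ⟨i, hi⟩ := mem_powers_iff_mem_zpowers.mpr hq
    show f (act q b) = f b
    rw [← hi]
    clear hi hq q
    induction i generalizing b with
    | zero => simp
    | succ i ih =>
      show f (act (y ^ (i + 1)) b) = f b
      rw [pow_succ, map_mul, MulAut.mul_apply]
      exact (ih _).trans (hf b)
  have hNQy : ∀ b, act y (NQ b) = NQ b := fun b => by
    show act y (∏ q : Q, act (q : P) b) = _
    rw [map_prod]
    refine Fintype.prod_equiv (Equiv.mulLeft (⟨y, Subgroup.mem_zpowers y⟩ : Q)) _ _ fun q => ?_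
    simp [map_mul, MulAut.mul_apply]
  have hNPw : ∀ (w : P) b, NP (act w b) = NP b := fun w b => by
    refine Fintype.prod_equiv (Equiv.mulRight w) _ _ fun p => ?_
    simp [map_mul, MulAut.mul_apply]
  have hkey : ∀ b, f b ^ (Nat.card Q * Nat.card P) = f (NP b) ^ Nat.card Q := by
    intro b
    have h1 : f (NQ b) = f b ^ Nat.card Q := by
      rw [map_prod]
      simp only [hfQ, Finset.prod_const, Finset.card_univ, Nat.card_eq_fintype_card]
    have h2 : NP (NQ b) = NQ b ^ Nat.card P := by
      show ∏ p : P, act p (NQ b) = _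
      simp only [hsemi y hy _ (hNQy b), Finset.prod_const, Finset.card_univ,
        Nat.card_eq_fintype_card]
    have h3 : NP (NQ b) = NP b ^ Nat.card Q := by
      show ∏ p : P, act p (∏ q : Q, act (q : P) b) = _
      simp only [map_prod]
      rw [Finset.prod_comm]
      show ∏ q : Q, NP (act (q : P) b) = _
      simp only [hNPw, Finset.prod_const, Finset.card_univ, Nat.card_eq_fintype_card]
    rw [pow_mul, ← h1, ← map_pow, ← h2, h3, map_pow]
  have hx : (f (act z a) / f a) ^ (Nat.card Q * Nat.card P) = 1 := by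
    rw [div_pow, hkey, hkey, hNPw, div_self']
  have hA : (f (act z a) / f a) ^ Nat.card A = 1 := by
    rw [← map_div, ← map_pow, pow_card_eq_one', map_one]
  have hc : (Nat.card Q * Nat.card P).Coprime (Nat.card A) :=
    (hcop.coprime_dvd_left (Subgroup.card_subgroup_dvd_card Q)).mul_left hcop
  rw [← div_eq_one]
  have := pow_gcd_eq_one.mpr ⟨hx, hA⟩
  rwa [hc.gcd_eq_one, pow_one] at this

/-- In a class two group an irreducible character has degree squared the index of its centre. -/
theorem exists_center_index {K : Type u} [Group K] [Fintype K] {d : ℕ}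
    (ρ : Representation ℂ K (Fin d → ℂ)) (hρ : ρ.IsIrreducible)
    (hcl : ∀ a b c : K, ⁅a, b⁆ * c = c * ⁅a, b⁆) :
    ∃ M : Subgroup K, (∀ k, k ∈ M ↔ ∀ g, ρ ⁅k, g⁆ = 1) ∧ M.index = d ^ 2 := by
  classical
  haveI := hρ
  have hcomm : ∀ a b : K, ρ ⁅a, b⁆ * (ρ b * ρ a) = ρ a * ρ b := fun a b => by
    rw [← map_mul, ← map_mul, ← map_mul]
    congr 1
    simp [commutatorElement_def, mul_assoc]
  have hiff : ∀ k g : K, ρ ⁅k, g⁆ = 1 ↔ ρ k * ρ g = ρ g * ρ k := fun k g => by
    constructor
    · intro h
      rw [← hcomm k g, h, one_mul]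
    · intro h
      have h1 := hcomm k g
      rw [h, ← map_mul, ← map_mul] at h1
      have h2 := congrArg (· * ρ (g * k)⁻¹) h1
      simp only [← map_mul] at h2
      rw [mul_assoc, mul_inv_cancel, mul_one] at h2
      rw [h2, map_one]
  let M : Subgroup K :=
    { carrier := {k | ∀ g, Commute (ρ k) (ρ g)}
      one_mem' := fun g => by simp
      mul_mem' := fun {a b} ha hb g => by rw [map_mul]; exact (ha g).mul_left (hb g)
      inv_mem' := fun {a} ha g => by
        have h1 : ρ a⁻¹ * ρ a = 1 := by rw [← map_mul, inv_mul_cancel, map_one]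
        have h2 : ρ a * ρ a⁻¹ = 1 := by rw [← map_mul, mul_inv_cancel, map_one]
        show ρ a⁻¹ * ρ g = ρ g * ρ a⁻¹
        calc ρ a⁻¹ * ρ g = ρ a⁻¹ * (ρ g * ρ a) * ρ a⁻¹ := by
              rw [← mul_assoc, mul_assoc (ρ a⁻¹ * ρ g), h2, mul_one]
          _ = ρ g * ρ a⁻¹ := by rw [← (ha g).eq, ← mul_assoc, h1, one_mul] }
  have hmem : ∀ k, k ∈ M ↔ ∀ g, ρ ⁅k, g⁆ = 1 := fun k =>
    ⟨fun h g => (hiff k g).mpr (h g).eq, fun h g => (hiff k g).mp (h g)⟩
  refine ⟨M, hmem, ?_⟩
  have hd1 : ρ.character 1 = (d : ℂ) := by rw [Representation.char_one, Module.finrank_fin_fun]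
  have hirr : Cfsg.IsIrrCharacter K ρ.character := Char.isIrrCharacter_character ρ
  have hval : ∀ k, ρ.character k * (starRingEnd ℂ) (ρ.character k) = if k ∈ M then (d : ℂ) ^ 2 else 0 := by
    intro k
    split_ifs with hk
    · obtain ⟨c, hc⟩ := Char.exists_scalar_of_commute ρ (ρ k) (fun g => (hk g).eq)
      obtain ⟨ci, hci⟩ := Char.exists_scalar_of_commute ρ (ρ k⁻¹) (fun g => ((M.inv_mem hk) g).eq)
      rw [show (starRingEnd ℂ) (ρ.character k) = ρ.character k⁻¹ from
        (Char.IsIrrCharacter.apply_inv hirr k).symm]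
      have h1 : ρ k * ρ k⁻¹ = 1 := by rw [← map_mul, mul_inv_cancel, map_one]
      have hck : ρ k = c • (1 : Module.End ℂ (Fin d → ℂ)) := hc
      have hci' : ρ k⁻¹ = ci • (1 : Module.End ℂ (Fin d → ℂ)) := hci
      rw [hck, hci', smul_mul_smul_comm, one_mul] at h1
      have : Nontrivial (Fin d → ℂ) := CharKernel.nontrivial_of_irreducible ρ
      have hcc : c * ci = 1 := (smul_left_injective ℂ
        (one_ne_zero (α := Module.End ℂ (Fin d → ℂ)))) (h1.trans (one_smul ℂ _).symm)
      have htr : LinearMap.trace ℂ (Fin d → ℂ) (1 : Module.End ℂ (Fin d → ℂ)) = (d : ℂ) := by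
        rw [LinearMap.trace_one, Module.finrank_fin_fun]
      simp only [Representation.character, hck, hci', map_smul, smul_eq_mul, htr]
      linear_combination (d : ℂ) ^ 2 * hcc
    · obtain ⟨g, hg⟩ : ∃ g, ρ ⁅k, g⁆ ≠ 1 := by
        by_contra h
        push Not at h
        exact hk ((hmem k).mpr h)
      obtain ⟨c, hc⟩ := Char.exists_scalar_of_commute ρ (ρ ⁅k, g⁆) (fun x => by
        rw [← map_mul, ← map_mul, hcl])
      have hck : ρ ⁅k, g⁆ = c • (1 : Module.End ℂ (Fin d → ℂ)) := hc
      have h1 : ρ.character k = c * ρ.character k := by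
        conv_rhs => rw [← ρ.char_conj k g]
        conv_lhs => rw [show k = ⁅k, g⁆ * (g * k * g⁻¹) by simp [commutatorElement_def, mul_assoc]]
        show LinearMap.trace ℂ _ (ρ (_ * _)) = _
        rw [map_mul, hck, smul_mul_assoc, one_mul, map_smul, smul_eq_mul]
        rfl
      have hc1 : c ≠ 1 := fun h => hg (by rw [hck, h, one_smul])
      have h2 : (c - 1) * ρ.character k = 0 := by linear_combination -h1
      rw [(mul_eq_zero.mp h2).resolve_left (sub_ne_zero.mpr hc1), zero_mul]
  have horth : Cfsg.classInner ρ.character ρ.character = 1 := Char.classInner_irr_self hirr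
  rw [Cfsg.classInner] at horth
  rw [Finset.sum_congr rfl (fun k _ => hval k), ← Finset.sum_filter, Finset.sum_const,
    nsmul_eq_mul] at horth
  have hcardM : (Finset.univ.filter fun k => k ∈ M).card = Nat.card M := by
    rw [Nat.card_eq_fintype_card, Fintype.card_subtype]
  rw [hcardM, inv_mul_eq_one₀ (Nat.cast_ne_zero.mpr Nat.card_pos.ne')] at horth
  have h2 : Nat.card M * M.index = Nat.card M * d ^ 2 := by
    rw [M.card_mul_index]
    exact_mod_cast horth
  exact Nat.eq_of_mul_eq_mul_left Nat.card_pos h2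

end CfsgLib.TILinear
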